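import Mathlib.CategoryTheory.Comma.Final
import Mathlib.CategoryTheory.Comma.StructuredArrow.Small
import Mathlib.CategoryTheory.Functor.KanExtension.Pointwise
import Mathlib.CategoryTheory.Abelian.GrothendieckAxioms.Basic
import Mathlib.CategoryTheory.Abelian.FunctorCategory
import Mathlib.CategoryTheory.Limits.Comma
import Mathlib.Algebra.Homology.ShortComplex.ExactFunctor

/-!
# Exactness of left Kan extensions to ind-objects

Let `ι : C ⥤ D` be a fully faithful exact functor from an essentially small abelian category such that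
morphisms from objects of `C` lift along epimorphisms up to epimorphisms in `C`.  Then the pointwise left
Kan extension along `ι` of an exact functor to an abelian category with exact filtered colimits is exact.
-/

set_option autoImplicit false
set_option maxHeartbeats 1000000
set_option linter.style.haveILetI false
set_option linter.unusedSectionVars false
set_option backward.isDefEq.respectTransparency false

universe u u₁ u₂ u' v'

open CategoryTheory CategoryTheory.Limits
open scoped ZeroObject

namespace Groth.Agent.H4.KanExact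

variable {C : Type u₁} [Category.{u} C] [Abelian C] [EssentiallySmall.{u} C]
  {D : Type u₂} [Category.{u} D] [Abelian D]
  (ι : C ⥤ D) [PreservesFiniteColimits ι]
  {A' : Type u'} [Category.{v'} A'] [Abelian A'] [HasFilteredColimitsOfSize.{u, u} A']
  [AB5OfSize.{u, u} A']
  (G : C ⥤ A') [PreservesFiniteLimits G] [PreservesFiniteColimits G]
  [ι.HasPointwiseLeftKanExtension G]

theorem isFiltered_costructuredArrow (M : D) : IsFiltered (CostructuredArrow ι M) :=
  IsFiltered.of_hasFiniteColimits _

theorem ι_map {M N : D} (g : M ⟶ N) (x : CostructuredArrow ι M) :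
    colimit.ι (CostructuredArrow.proj ι M ⋙ G) x ≫ (ι.pointwiseLeftKanExtension G).map g =
      colimit.ι (CostructuredArrow.proj ι N ⋙ G) ((CostructuredArrow.map g).obj x) := by
  exact colimit.ι_desc _ _

theorem ι_congr {M : D} (T : C) {a a' : ι.obj T ⟶ M} (h : a = a') :
    colimit.ι (CostructuredArrow.proj ι M ⋙ G) (CostructuredArrow.mk a) =
      colimit.ι (CostructuredArrow.proj ι M ⋙ G) (CostructuredArrow.mk a') := by
  subst h; rfl

/-- The leg of the colimit at `a`. -/
noncomputable def leg {M : D} (T : C) (a : ι.obj T ⟶ M) :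
    G.obj T ⟶ (ι.pointwiseLeftKanExtension G).obj M :=
  colimit.ι (CostructuredArrow.proj ι M ⋙ G) (CostructuredArrow.mk a)

/-- The legs of the colimit are additive in the structure morphism. -/
theorem ι_add {M : D} (T : C) (a b : ι.obj T ⟶ M) :
    leg ι G T (a + b) = leg ι G T a + leg ι G T b := by
  haveI : PreservesBinaryBiproducts ι := preservesBinaryBiproducts_of_preservesBinaryCoproducts ι
  haveI : ι.Additive := Functor.additive_of_preservesBinaryBiproducts ι
  haveI : PreservesBinaryBiproducts G := preservesBinaryBiproducts_of_preservesBinaryCoproducts G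
  haveI : G.Additive := Functor.additive_of_preservesBinaryBiproducts G
  let c : ι.obj (T ⊞ T) ⟶ M := ι.map biprod.fst ≫ a + ι.map biprod.snd ≫ b
  have hl : ι.map biprod.inl ≫ c = a := by
    simp only [c, Preadditive.comp_add, ← Functor.map_comp_assoc, biprod.inl_fst, biprod.inl_snd]
    simp
  have hr : ι.map biprod.inr ≫ c = b := by
    simp only [c, Preadditive.comp_add, ← Functor.map_comp_assoc, biprod.inr_fst, biprod.inr_snd]
    simp
  have hd : ι.map (biprod.inl + biprod.inr) ≫ c = a + b := by
    rw [Functor.map_add, Preadditive.add_comp, hl, hr]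
  have key : ∀ (t : T ⟶ T ⊞ T) (w : ι.obj T ⟶ M), ι.map t ≫ c = w →
      G.map t ≫ leg ι G (T ⊞ T) c = leg ι G T w := fun t w hw =>
    colimit.w (CostructuredArrow.proj ι M ⋙ G)
      (CostructuredArrow.homMk t hw : CostructuredArrow.mk w ⟶ CostructuredArrow.mk c)
  rw [← key _ _ hl, ← key _ _ hr, ← key _ _ hd, Functor.map_add, Preadditive.add_comp]

theorem additive : (ι.pointwiseLeftKanExtension G).Additive := by
  refine ⟨fun {M N φ ψ} => colimit.hom_ext fun x => ?_⟩
  refine (ι_map ι G (φ + ψ) x).trans (Eq.trans ?_ (Preadditive.comp_add _ _ _ _ _ _).symm)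
  refine Eq.trans ?_ (congrArg₂ (· + ·) (ι_map ι G φ x).symm (ι_map ι G ψ x).symm)
  exact (ι_congr ι G x.left (Preadditive.comp_add _ _ _ x.hom φ ψ)).trans
    (ι_add ι G x.left (x.hom ≫ φ) (x.hom ≫ ψ))

variable [ι.Faithful]

/-- The Kan extension maps short exact sequences to short exact sequences. -/
theorem map_shortExact
    (hlift : ∀ {M N : D} (p : M ⟶ N) [Epi p] (T : C) (b : ι.obj T ⟶ N),
      ∃ (T' : C) (q : T' ⟶ T) (a : ι.obj T' ⟶ M), Epi q ∧ a ≫ p = ι.map q ≫ b)
    (S : ShortComplex D) (hS : S.ShortExact) :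
    haveI := additive ι G
    (S.map (ι.pointwiseLeftKanExtension G)).ShortExact := by
  haveI := additive ι G
  haveI := hS.mono_f
  haveI := hS.epi_g
  let L := ι.pointwiseLeftKanExtension G
  haveI : PreservesBinaryBiproducts ι := preservesBinaryBiproducts_of_preservesBinaryCoproducts ι
  haveI : ι.Additive := Functor.additive_of_preservesBinaryBiproducts ι
  haveI : PreservesBinaryBiproducts G := preservesBinaryBiproducts_of_preservesBinaryCoproducts G
  haveI : G.Additive := Functor.additive_of_preservesBinaryBiproducts G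
  haveI := isFiltered_costructuredArrow ι S.X₁
  haveI := isFiltered_costructuredArrow ι S.X₂
  haveI := isFiltered_costructuredArrow ι S.X₃
  -- epimorphisms
  haveI hepi : Epi (L.map S.g) := by
    refine Preadditive.epi_of_cancel_zero _ fun {Z} z hz => colimit.hom_ext fun y => ?_
    obtain ⟨T', q, a, hq, ha⟩ := hlift S.g y.left y.hom
    haveI := hq
    refine (cancel_epi (G.map q)).1 (Eq.trans ?_ ((congrArg _ comp_zero).trans comp_zero).symm)
    let t : (CostructuredArrow.map S.g).obj (CostructuredArrow.mk a) ⟶ y :=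
      CostructuredArrow.homMk q ha.symm
    have h1 := colimit.w (CostructuredArrow.proj ι S.X₃ ⋙ G) t
    change G.map q ≫ _ = _ at h1
    refine (Category.assoc _ _ _).symm.trans ?_
    refine (congrArg (· ≫ z) (h1.trans (ι_map ι G S.g (CostructuredArrow.mk a)).symm)).trans ?_
    exact (Category.assoc _ _ _).trans ((congrArg _ hz).trans comp_zero)
  -- the category of arrows over `S.g`
  let P : CostructuredArrow ι S.X₂ ⥤ CostructuredArrow ι S.X₃ := CostructuredArrow.map S.g
  let K := Comma P (𝟭 (CostructuredArrow ι S.X₃))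
  haveI : EssentiallySmall.{u} K := by
    let eM := equivSmallModel.{u} (CostructuredArrow ι S.X₂)
    let eN := equivSmallModel.{u} (CostructuredArrow ι S.X₃)
    let α : eM.functor ⋙ (eM.inverse ⋙ P ⋙ eN.functor) ≅ P ⋙ eN.functor :=
      (Functor.associator _ _ _).symm ≪≫ Functor.isoWhiskerRight eM.unitIso.symm (P ⋙ eN.functor) ≪≫
        Functor.leftUnitor _
    let β : 𝟭 (CostructuredArrow ι S.X₃) ⋙ eN.functor ≅ eN.functor ⋙ 𝟭 _ :=
      Functor.leftUnitor _ ≪≫ (Functor.rightUnitor _).symm
    exact EssentiallySmall.mk' (Comma.map α.hom β.hom).asEquivalence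
  haveI : IsFiltered K := inferInstance
  haveI : IsFiltered (SmallModel.{u} K) := IsFiltered.of_equivalence (equivSmallModel K)
  haveI : HasColimitsOfShape K A' := hasColimitsOfShape_of_equivalence (equivSmallModel.{u} K).symm
  haveI : HasExactColimitsOfShape K A' :=
    HasExactColimitsOfShape.of_domain_equivalence A' (equivSmallModel.{u} K).symm
  let D₁ : K ⥤ C := Comma.fst P (𝟭 _) ⋙ CostructuredArrow.proj ι S.X₂
  let D₂ : K ⥤ C := Comma.snd P (𝟭 _) ⋙ CostructuredArrow.proj ι S.X₃
  let τ : D₁ ⟶ D₂ :=
    { app := fun k => k.hom.left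
      naturality := fun k k' t => congrArg CommaMorphism.left t.w }
  let Dk : K ⥤ C :=
    { obj := fun k => kernel k.hom.left
      map := fun {k k'} t => kernel.map _ _ (D₁.map t) (D₂.map t) (τ.naturality t).symm
      map_id := fun k => equalizer.hom_ext ((kernel.lift_ι _ _ _).trans
        ((congrArg (kernel.ι _ ≫ ·) (D₁.map_id k)).trans
          ((Category.comp_id _).trans (Category.id_comp _).symm)))
      map_comp := fun t t' => equalizer.hom_ext ((kernel.lift_ι _ _ _).trans (Eq.symm (by
        refine (Category.assoc _ _ _).trans ((congrArg _ (kernel.lift_ι _ _ _)).trans ?_)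
        refine (Category.assoc _ _ _).symm.trans ((congrArg (· ≫ D₁.map t') (kernel.lift_ι _ _ _)).trans ?_)
        exact (Category.assoc _ _ _).trans (congrArg _ (D₁.map_comp t t').symm)))) }
  let κ : Dk ⟶ D₁ :=
    { app := fun k => kernel.ι k.hom.left
      naturality := fun k k' t => kernel.lift_ι _ _ _ }
  have hw : ∀ k : K, (ι.map (κ.app k) ≫ k.left.hom) ≫ S.g = 0 := fun k => by
    have h1 : ι.map k.hom.left ≫ k.right.hom = k.left.hom ≫ S.g := CostructuredArrow.w k.hom
    rw [Category.assoc, ← h1, ← Category.assoc, ← Functor.map_comp, kernel.condition,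
      Functor.map_zero, zero_comp]
  let Φ : K ⥤ CostructuredArrow ι S.X₁ :=
    { obj := fun k => CostructuredArrow.mk (hS.exact.lift _ (hw k))
      map := fun {k k'} t => CostructuredArrow.homMk (Dk.map t) (by
        refine (cancel_mono S.f).1 ?_
        show (ι.map (Dk.map t) ≫ hS.exact.lift _ (hw k')) ≫ S.f = hS.exact.lift _ (hw k) ≫ S.f
        rw [Category.assoc, hS.exact.lift_f, hS.exact.lift_f, ← Category.assoc, ← Functor.map_comp,
          κ.naturality, Functor.map_comp, Category.assoc]
        exact congrArg _ (CostructuredArrow.w t.left))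
      map_id := fun k => CostructuredArrow.hom_ext _ _ (Dk.map_id k)
      map_comp := fun t t' => CostructuredArrow.hom_ext _ _ (Dk.map_comp t t') }
  haveI hfin : Φ.Final := by
    refine Functor.final_of_exists_of_isFiltered Φ (fun d => ?_) (fun {d k} s s' => ?_)
    · have hd : (d.hom ≫ S.f) ≫ S.g = ι.map (0 : d.left ⟶ (0 : C)) ≫ 0 := by
        rw [Category.assoc, S.zero, comp_zero, comp_zero]
      let k : K :=
        { left := CostructuredArrow.mk (d.hom ≫ S.f)
          right := CostructuredArrow.mk (0 : ι.obj (0 : C) ⟶ S.X₃)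
          hom := CostructuredArrow.homMk (0 : d.left ⟶ (0 : C)) hd.symm }
      refine ⟨k, ⟨CostructuredArrow.homMk (kernel.lift _ (𝟙 d.left) comp_zero) ?_⟩⟩
      refine (cancel_mono S.f).1 ?_
      show (ι.map _ ≫ hS.exact.lift _ (hw k)) ≫ S.f = _
      rw [Category.assoc, hS.exact.lift_f, ← Category.assoc, ← Functor.map_comp]
      show ι.map (kernel.lift _ _ _ ≫ kernel.ι _) ≫ _ = _
      rw [kernel.lift_ι]
      exact (congrArg (· ≫ k.left.hom) (ι.map_id d.left)).trans (Category.id_comp _)
    · let w : d.left ⟶ k.left.left := (s.left - s'.left) ≫ κ.app k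
      have ha : ι.map w ≫ k.left.hom = 0 := by
        rw [Functor.map_comp, Category.assoc]
        refine (congrArg _ (hS.exact.lift_f _ (hw k)).symm).trans ?_
        rw [← Category.assoc, Functor.map_sub, Preadditive.sub_comp]
        refine Eq.trans ?_ (zero_comp (f := S.f))
        refine congrArg (· ≫ S.f) (sub_eq_zero.2 ?_)
        exact (CostructuredArrow.w s).trans (CostructuredArrow.w s').symm
      let a' : ι.obj (cokernel w) ⟶ S.X₂ :=
        (PreservesCokernel.iso ι w).hom ≫ cokernel.desc _ k.left.hom ha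
      have ha' : ι.map (cokernel.π w) ≫ a' = k.left.hom := by
        simp [a']
      have hφ : w ≫ k.hom.left = 0 := by
        show ((s.left - s'.left) ≫ kernel.ι _) ≫ _ = 0
        rw [Category.assoc, kernel.condition, comp_zero]
      have hk' : ι.map (cokernel.desc w k.hom.left hφ) ≫ k.right.hom = a' ≫ S.g := by
        haveI : Epi (ι.map (cokernel.π w)) := inferInstance
        rw [← cancel_epi (ι.map (cokernel.π w)), ← Category.assoc, ← Functor.map_comp, cokernel.π_desc,
          ← Category.assoc, ha']
        exact CostructuredArrow.w k.hom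
      let k' : K :=
        { left := CostructuredArrow.mk a'
          right := k.right
          hom := CostructuredArrow.homMk (cokernel.desc w k.hom.left hφ) hk' }
      let t : k ⟶ k' :=
        { left := CostructuredArrow.homMk (cokernel.π w) ha'
          right := 𝟙 _
          w := CostructuredArrow.hom_ext _ _ (by
            show cokernel.π w ≫ cokernel.desc _ _ _ = k.hom.left ≫ 𝟙 _
            rw [cokernel.π_desc, Category.comp_id]) }
      refine ⟨k', t, CostructuredArrow.hom_ext _ _ ?_⟩
      show s.left ≫ Dk.map t = s'.left ≫ Dk.map t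
      rw [← sub_eq_zero, ← Preadditive.sub_comp, ← cancel_mono (κ.app k'), zero_comp, Category.assoc,
        κ.naturality, ← Category.assoc]
      exact cokernel.condition w
  -- the sequence of diagrams
  let κG : Dk ⋙ G ⟶ D₁ ⋙ G := Functor.whiskerRight κ G
  let τG : D₁ ⋙ G ⟶ D₂ ⋙ G := Functor.whiskerRight τ G
  have hκτ : κG ≫ τG = 0 := by
    ext k
    show G.map (kernel.ι k.hom.left) ≫ G.map k.hom.left = 0
    rw [← G.map_comp, kernel.condition, G.map_zero]
  let T : ShortComplex (K ⥤ A') := ShortComplex.mk κG τG hκτ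
  haveI : Mono κG := by
    haveI : ∀ k, Mono (κG.app k) := fun k =>
      inferInstanceAs (Mono (G.map (kernel.ι k.hom.left)))
    exact NatTrans.mono_of_mono_app _
  have hT : T.Exact := by
    refine ShortComplex.exact_of_f_is_kernel _ (evaluationJointlyReflectsLimits _ fun k => ?_)
    refine (KernelFork.isLimitMapConeEquiv _ ((evaluation K A').obj k)).symm ?_
    exact KernelFork.mapIsLimit _ (kernelIsKernel k.hom.left) G
  haveI : (colim : (K ⥤ A') ⥤ A').Additive := by
    haveI : PreservesBinaryBiproducts (colim : (K ⥤ A') ⥤ A') :=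
      preservesBinaryBiproducts_of_preservesBinaryCoproducts _
    exact Functor.additive_of_preservesBinaryBiproducts _
  haveI : PreservesFiniteColimits (colim : (K ⥤ A') ⥤ A') :=
    PreservesColimitsOfSize.preservesFiniteColimits.{0, 0} _
  haveI : Mono (T.map colim).f := inferInstanceAs (Mono (colim.map κG))
  have hT' : (T.map colim).Exact := hT.map colim
  -- comparison
  let e₁ := colimit.pre (CostructuredArrow.proj ι S.X₁ ⋙ G) Φ
  let e₂ := colimit.pre (CostructuredArrow.proj ι S.X₂ ⋙ G) (Comma.fst P (𝟭 _))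
  let e₃ := colimit.pre (CostructuredArrow.proj ι S.X₃ ⋙ G) (Comma.snd P (𝟭 _))
  have c₁ : e₁ ≫ L.map S.f = colim.map κG ≫ e₂ := colimit.hom_ext fun k => by
    refine ((Category.assoc _ _ _).symm.trans (congrArg (· ≫ L.map S.f) (colimit.ι_pre _ Φ k))).trans ?_
    refine (ι_map ι G S.f (Φ.obj k)).trans ?_
    refine Eq.trans ?_ ((Category.assoc _ _ _).symm.trans (congrArg (· ≫ e₂) (colimit.ι_map κG k))).symm
    refine Eq.trans ?_ ((congrArg _ (colimit.ι_pre _ _ k).symm).trans (Category.assoc _ _ _).symm)
    exact (colimit.w (CostructuredArrow.proj ι S.X₂ ⋙ G)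
      (CostructuredArrow.homMk (κ.app k) (hS.exact.lift_f _ (hw k)).symm :
        (CostructuredArrow.map S.f).obj (Φ.obj k) ⟶ k.left)).symm
  have c₂ : e₂ ≫ L.map S.g = colim.map τG ≫ e₃ := colimit.hom_ext fun k => by
    refine ((Category.assoc _ _ _).symm.trans
      (congrArg (· ≫ L.map S.g) (colimit.ι_pre _ (Comma.fst P (𝟭 _)) k))).trans ?_
    refine (ι_map ι G S.g _).trans ?_
    refine Eq.trans ?_ ((Category.assoc _ _ _).symm.trans (congrArg (· ≫ e₃) (colimit.ι_map τG k))).symm
    refine Eq.trans ?_ ((congrArg _ (colimit.ι_pre _ _ k).symm).trans (Category.assoc _ _ _).symm)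
    exact (colimit.w (CostructuredArrow.proj ι S.X₃ ⋙ G) k.hom).symm
  let η : T.map colim ⟶ S.map L := { τ₁ := e₁, τ₂ := e₂, τ₃ := e₃, comm₁₂ := c₁, comm₂₃ := c₂ }
  haveI : IsIso η.τ₁ := inferInstanceAs (IsIso e₁)
  haveI : IsIso η.τ₂ := inferInstanceAs (IsIso e₂)
  haveI : IsIso η.τ₃ := inferInstanceAs (IsIso e₃)
  haveI : IsIso η := ShortComplex.isIso_of_isIso η
  refine { exact := ShortComplex.exact_of_iso (asIso η) hT', mono_f := ?_, epi_g := hepi }
  show Mono (L.map S.f)
  haveI h1 : Mono ((T.map colim).f ≫ η.τ₂) := mono_comp _ _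
  rw [← η.comm₁₂] at h1
  exact (MorphismProperty.cancel_left_of_respectsIso (MorphismProperty.monomorphisms A') η.τ₁
    (S.map L).f).1 h1

/-- The Kan extension is exact. -/
theorem preserves
    (hlift : ∀ {M N : D} (p : M ⟶ N) [Epi p] (T : C) (b : ι.obj T ⟶ N),
      ∃ (T' : C) (q : T' ⟶ T) (a : ι.obj T' ⟶ M), Epi q ∧ a ≫ p = ι.map q ≫ b) :
    PreservesFiniteLimits (ι.pointwiseLeftKanExtension G) ∧
      PreservesFiniteColimits (ι.pointwiseLeftKanExtension G) := by
  haveI := additive ι G
  exact ((ι.pointwiseLeftKanExtension G).exact_tfae.out 0 3).1 (map_shortExact ι G hlift)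

end Groth.Agent.H4.KanExact
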