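import Groth.Agent.H4.KanExact.Basic
import Groth.Agent.H22.IndColim.Five
import Groth.Agent.H22.IndColim.Coreflect
import Mathlib.CategoryTheory.Abelian.Subcategory

/-!
# Exact extensions of exact functors on coherent modules to ind-coherent modules
-/

set_option autoImplicit false
set_option maxHeartbeats 1000000
set_option linter.style.haveILetI false
set_option backward.isDefEq.respectTransparency false

universe u

open CategoryTheory CategoryTheory.Limits AlgebraicGeometry TopologicalSpace Opposite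
open Groth.Agent.H30 Groth.Agent.H30.RealLimSec Groth.Agent.H22.IndColim

namespace Groth.Agent.H4.KanExact.Coh

variable {𝔛 : FSch.Sys.{u}} (h𝔛 : 𝔛.IsLocNoethFormal)

/-- Coherent modules. -/
abbrev coh : ObjectProperty (FSch.ModF 𝔛 h𝔛.1) := fun 𝔊 => FSch.IsCohF 𝔛 h𝔛.1 𝔊

theorem ind_kernels : (ObjectProperty.ind.{u} (coh h𝔛)).IsClosedUnderKernels where
  kernels_le := by
    rintro _ ⟨f, k, hk, hf⟩
    exact (ObjectProperty.ind.{u} (coh h𝔛)).prop_of_iso
      ((kernelIsKernel f).conePointUniqueUpToIso hk) (ind_kernel h𝔛 hf.1 hf.2 f)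

theorem ind_cokernels : (ObjectProperty.ind.{u} (coh h𝔛)).IsClosedUnderCokernels where
  cokernels_le := by
    rintro _ ⟨f, k, hk, hf⟩
    exact (ObjectProperty.ind.{u} (coh h𝔛)).prop_of_iso
      ((cokernelIsCokernel f).coconePointUniqueUpToIso hk) (ind_cokernel h𝔛 hf.1 hf.2 f)

theorem ind_containsZero [(coh h𝔛).ContainsZero] :
    (ObjectProperty.ind.{u} (coh h𝔛)).ContainsZero := by
  obtain ⟨Z, hZ, hZ'⟩ := (coh h𝔛).exists_prop_of_containsZero
  exact ⟨Z, hZ, ObjectProperty.le_ind _ _ hZ'⟩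

theorem ind_finiteProducts [(coh h𝔛).ContainsZero] :
    (ObjectProperty.ind.{u} (coh h𝔛)).IsClosedUnderFiniteProducts := by
  haveI := ind_containsZero h𝔛
  haveI : (ObjectProperty.ind.{u} (coh h𝔛)).IsClosedUnderColimitsOfShape
      (Discrete (ULift.{u} WalkingPair)) := isClosedUnderColimitsOfShape h𝔛 _
  haveI : (ObjectProperty.ind.{u} (coh h𝔛)).IsClosedUnderBinaryCoproducts :=
    ObjectProperty.IsClosedUnderColimitsOfShape.of_equivalence (Discrete.equivalence Equiv.ulift)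
  haveI : (ObjectProperty.ind.{u} (coh h𝔛)).IsClosedUnderBinaryProducts := by
    refine .mk' ?_
    rintro _ ⟨F, hF⟩
    let P := F.obj ⟨WalkingPair.left⟩
    let Q := F.obj ⟨WalkingPair.right⟩
    exact (ObjectProperty.ind.{u} (coh h𝔛)).prop_of_iso
      ((biprod.isoProd P Q) ≪≫ (HasLimit.isoOfNatIso (diagramIsoPair F)).symm)
      ((ObjectProperty.ind.{u} (coh h𝔛)).prop_of_isColimit_binaryCofan
        (BinaryBiproduct.isColimit P Q) (hF ⟨WalkingPair.left⟩) (hF ⟨WalkingPair.right⟩))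
  exact ObjectProperty.IsClosedUnderFiniteProducts.mk'

/-- Coherent modules form an essentially small category. -/
theorem essentiallySmall : EssentiallySmall.{u} (coh h𝔛).FullSubcategory := by
  haveI := Groth.Agent.Lib.DerivedOX.Grothendieck.isGrothendieckAbelian_sheafOfModules
    (ModSite.ringSh (𝔛.Osh h𝔛.1))
  haveI : WellPowered.{u} (FSch.ModF 𝔛 h𝔛.1) := inferInstance
  obtain ⟨U₀, hU₀⟩ := exists_cover h𝔛
  choose φ hφ using fun T : (coh h𝔛).FullSubcategory => hU₀ T.obj T.property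
  refine (essentiallySmall_iff _).2 ⟨?_, inferInstance⟩
  refine small_of_injective
    (f := fun s : Skeleton (coh h𝔛).FullSubcategory =>
      Subobject.mk (kernel.ι (φ ((fromSkeleton (coh h𝔛).FullSubcategory).obj s)))) ?_
  intro a b hab
  haveI := hφ ((fromSkeleton (coh h𝔛).FullSubcategory).obj a)
  haveI := hφ ((fromSkeleton (coh h𝔛).FullSubcategory).obj b)
  let ca := (cokernelIsCokernel (kernel.ι (φ ((fromSkeleton (coh h𝔛).FullSubcategory).obj a)))).coconePointUniqueUpToIso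
    (Abelian.epiIsCokernelOfKernel _ (limit.isLimit _))
  let cb := (cokernelIsCokernel (kernel.ι (φ ((fromSkeleton (coh h𝔛).FullSubcategory).obj b)))).coconePointUniqueUpToIso
    (Abelian.epiIsCokernelOfKernel _ (limit.isLimit _))
  let e := cokernel.mapIso _ _ (Subobject.isoOfMkEqMk _ _ hab) (Iso.refl U₀)
    ((Category.comp_id _).trans (Subobject.ofMkLEMk_comp _).symm)
  exact skeleton_skeletal _ ⟨(fromSkeleton _).preimageIso ((coh h𝔛).isoMk (ca.symm ≪≫ e ≪≫ cb))⟩

variable [CompactSpace (𝔛.X 0)]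

/-- A coherent piece of an ind-coherent module covers a coherent quotient. -/
theorem exists_stage {P T : FSch.ModF 𝔛 h𝔛.1} (π : P ⟶ T) [Epi π]
    (hP : (ObjectProperty.ind.{u} (coh h𝔛)) P) (hT : FSch.IsCohF 𝔛 h𝔛.1 T) :
    ∃ (T' : FSch.ModF 𝔛 h𝔛.1) (_ : FSch.IsCohF 𝔛 h𝔛.1 T') (a : T' ⟶ P), Epi (a ≫ π) := by
  classical
  haveI : IsLocallyNoetherian (𝔛.X 0) := h𝔛.2.2 0
  haveI : PrespectralSpace (𝔛.X 0) := inferInstance
  haveI : QuasiSeparatedSpace (𝔛.X 0) := inferInstance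
  have hker : (ObjectProperty.ind.{u} (coh h𝔛)) (kernel π) :=
    ind_kernel h𝔛 hP (ObjectProperty.le_ind _ _ hT) π
  have hsurj : ∀ {V : (𝔛.X 0).Opens}, IsAffineOpen V → Function.Surjective (secMap h𝔛.1 π V) :=
    fun hV => surjective_of_ind h𝔛
      (S := ShortComplex.mk (kernel.ι π) π (kernel.condition π))
      { exact := ShortComplex.exact_of_f_is_kernel _ (kernelIsKernel π), mono_f := inferInstance,
        epi_g := ‹_› } hker hV
  obtain ⟨J, _, _, pres, hp⟩ := hP
  haveI : PreservesColimitsOfSize.{u, u} (SheafOfModules.toSheaf.{u} (ModSite.ringSh (𝔛.Osh h𝔛.1))) :=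
    inferInstance
  let hc' := isColimitOfPreserves (SheafOfModules.toSheaf.{u} (ModSite.ringSh (𝔛.Osh h𝔛.1)))
    pres.isColimit
  choose W hW hxW using fun x : 𝔛.X 0 => CohCons.exists_affine (𝔛 := 𝔛) x
  obtain ⟨s, hs⟩ := isCompact_univ.elim_finite_subcover (fun x => (W x : Set (𝔛.X 0)))
    (fun x => (W x).2) fun x _ => Set.mem_iUnion.2 ⟨x, hxW x⟩
  choose n f hf using fun x : 𝔛.X 0 => CohCons.exists_fin_gens h𝔛 (hW x) hT
  choose y hy using fun (x : 𝔛.X 0) (i : Fin (n x)) => hsurj (hW x) (f x i)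
  choose j t ht using fun (x : 𝔛.X 0) (i : Fin (n x)) =>
    ColimCoh.Sections.exists_rep hc' (hW x).isCompact (y x i)
  obtain ⟨j₀, hj₀⟩ := IsFiltered.sup_objs_exists (s.biUnion fun x => Finset.univ.image (j x))
  refine ⟨pres.diag.obj j₀, hp j₀, pres.ι.app j₀, ?_⟩
  let φ := pres.ι.app j₀ ≫ π
  have hWsurj : ∀ x ∈ s, Function.Surjective (secMap h𝔛.1 φ (W x)) := by
    intro x hx v
    obtain ⟨a, rfl⟩ := hf x v
    have hm : ∀ i, Nonempty (j x i ⟶ j₀) := fun i =>
      hj₀ (Finset.mem_biUnion.2 ⟨x, hx, Finset.mem_image_of_mem _ (Finset.mem_univ i)⟩)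
    refine ⟨∑ i, a i • secMap h𝔛.1 (pres.diag.map (hm i).some) (W x) (t x i), ?_⟩
    rw [map_sum]
    refine Finset.sum_congr rfl fun i _ => ?_
    rw [map_smul, ← secMap_comp]
    refine congrArg (a i • ·) ?_
    have hw : pres.diag.map (hm i).some ≫ φ = pres.ι.app (j x i) ≫ π := by
      show _ ≫ pres.ι.app j₀ ≫ π = _
      rw [← Category.assoc]
      exact congrArg (· ≫ π) (pres.cocone.w (hm i).some)
    rw [hw, secMap_comp]
    exact (congrArg _ (show secMap h𝔛.1 (pres.ι.app (j x i)) (W x) (t x i) = y x i from ht x i)).trans (hy x i)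
  haveI : Sheaf.IsLocallySurjective ((SheafOfModules.toSheaf _).map φ) := by
    refine ⟨fun {U} v z hz => ?_⟩
    obtain ⟨x, hx, hzx⟩ : ∃ x ∈ s, z ∈ W x := by
      obtain ⟨x, hx, hzx⟩ := Set.mem_iUnion₂.1 (hs (Set.mem_univ z))
      exact ⟨x, hx, hzx⟩
    obtain ⟨V, hVZ, hzV, hm⟩ := gen_coh h𝔛 hT (W x) (hW x) (U ⊓ W x) inf_le_right
      (CohPres.resF h𝔛.1 T inf_le_left v) z ⟨hz, hzx⟩
    obtain ⟨m, a, γ, hγ⟩ := exists_of_mem_span_range (hVZ.trans inf_le_right) hm
    choose β hβ using fun l => hWsurj x hx (γ l)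
    refine ⟨V, homOfLE (hVZ.trans inf_le_left),
      ⟨∑ l, a l • CohPres.resF h𝔛.1 (pres.diag.obj j₀) (hVZ.trans inf_le_right) (β l), ?_⟩, hzV⟩
    refine Eq.trans ?_ (hγ.symm.trans (resF_resF T inf_le_left hVZ v))
    refine (map_sum (secMap h𝔛.1 φ V) _ _).trans (Finset.sum_congr rfl fun l _ => ?_)
    rw [map_smul, secMap_res, hβ]
  exact (SheafOfModules.toSheaf _).epi_of_epi_map inferInstance

variable [(coh h𝔛).ContainsZero] [(coh h𝔛).IsClosedUnderKernels]
  [(coh h𝔛).IsClosedUnderCokernels] [(coh h𝔛).IsClosedUnderFiniteProducts]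

theorem preserves {A' : Type*} [Category A'] [Abelian A'] [HasFilteredColimitsOfSize.{u, u} A']
    [AB5OfSize.{u, u} A'] (G : (coh h𝔛).FullSubcategory ⥤ A')
    [PreservesFiniteLimits G] [PreservesFiniteColimits G]
    [(ObjectProperty.ιOfLE (ObjectProperty.le_ind.{u} (coh h𝔛))).HasPointwiseLeftKanExtension G] :
    PreservesFiniteLimits
        ((ObjectProperty.ιOfLE (ObjectProperty.le_ind.{u} (coh h𝔛))).pointwiseLeftKanExtension G) ∧
      PreservesFiniteColimits
        ((ObjectProperty.ιOfLE (ObjectProperty.le_ind.{u} (coh h𝔛))).pointwiseLeftKanExtension G) := by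
  let Pi := ObjectProperty.ind.{u} (coh h𝔛)
  haveI := ind_kernels h𝔛
  haveI := ind_cokernels h𝔛
  haveI := ind_containsZero h𝔛
  haveI := ind_finiteProducts h𝔛
  haveI := essentiallySmall h𝔛
  let ι := ObjectProperty.ιOfLE (ObjectProperty.le_ind.{u} (coh h𝔛))
  haveI : ι.Faithful := (ObjectProperty.fullyFaithfulιOfLE _).faithful
  haveI : ∀ ⦃X Y : (coh h𝔛).FullSubcategory⦄ (f : X ⟶ Y),
      PreservesColimit (parallelPair f 0) (coh h𝔛).ι := (coh h𝔛).preservesCokernels_ι
  haveI : PreservesFiniteColimits (coh h𝔛).ι := (coh h𝔛).ι.preservesFiniteColimits_of_preservesCokernels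
  haveI : PreservesFiniteColimits (ι ⋙ Pi.ι) := ‹PreservesFiniteColimits (coh h𝔛).ι›
  haveI : PreservesFiniteColimits ι := preservesFiniteColimits_of_reflects_of_preserves ι Pi.ι
  haveI : Pi.ι.PreservesEpimorphisms := Pi.preservesEpimorphisms_ι_of_isNormalMonoCategory
  refine Groth.Agent.H4.KanExact.preserves ι G fun {M N} p _ T b => ?_
  haveI : Epi p := ‹_›
  haveI : Epi (pullback.snd p b) := Abelian.epi_pullback_of_epi_f p b
  haveI : Epi (pullback.snd p b).hom := (inferInstance : Epi (Pi.ι.map (pullback.snd p b)))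
  obtain ⟨T', hT', a, ha⟩ := exists_stage h𝔛 (pullback.snd p b).hom (hP := (pullback p b).property)
    (hT := T.property)
  let T'' : (coh h𝔛).FullSubcategory := ⟨T', hT'⟩
  let a' : ι.obj T'' ⟶ pullback p b := ObjectProperty.homMk a
  let q : T'' ⟶ T := ObjectProperty.homMk (a ≫ (pullback.snd p b).hom)
  refine ⟨T'', q, a' ≫ pullback.fst p b, ?_, ?_⟩
  · exact (coh h𝔛).ι.epi_of_epi_map (f := q) ha
  · rw [Category.assoc, pullback.condition, ← Category.assoc]
    rfl

end Groth.Agent.H4.KanExact.Coh
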